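import Groth.Agent.RG.FTStrict
import Groth.Agent.RG.StrictSub
import Groth.Agent.LimTop.Closure
import Groth.Agent.FDesc.ProConsImage
import Groth.Agent.S14790
import Groth.Agent.S10837
import Groth.Agent.RedSub.Basic
import Groth.Prelude.Def_W4c2submetdescSubtr

/-!
# Points of strict transforms
-/

set_option autoImplicit false
set_option linter.style.haveILetI false

universe u

open AlgebraicGeometry CategoryTheory Limits TopologicalSpace

namespace Groth.Agent.SubtrFlat

variable {X Y Y' X' : Scheme.{u}}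

/-- The complement of an effective Cartier divisor is dense. -/
theorem dense_compl_support {J : X.IdealSheafData} (hJ : BlowUp.IsEffCartierIdeal J) :
    Dense (J.support : Set X)ᶜ := by
  haveI := ModPairLib.Dense.isAffineHom_interior hJ
  have h := (isSchemeTheoreticallyDominant_iff _).1
    (ModPairLib.Dense.isSchemeTheoreticallyDominant_interior hJ)
  have hs := (ModPair.interior J).ι.support_ker
  rw [h, Scheme.IdealSheafData.support_bot, Scheme.Opens.range_ι] at hs
  intro x
  have : x ∈ closure ((ModPair.interior J : X.Opens) : Set X) := hs ▸ Set.mem_univ x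
  exact this

/-- The preimage of the centre's complement is dense in the blow-up. -/
theorem dense_preimage {b : Y' ⟶ Y} {𝓘 : Y.IdealSheafData} (hb : BlowUp.IsBlowUp b 𝓘)
    (U : Y.Opens) (hU : (𝓘.support : Set Y) = (U : Set Y)ᶜ) : Dense (b ⁻¹' (U : Set Y)) := by
  have h := dense_compl_support hb.1
  rw [Scheme.IdealSheafData.support_comap] at h
  refine h.mono fun x hx => ?_
  by_contra hxU
  exact hx (show b x ∈ (𝓘.support : Set Y) from hU ▸ hxU)

/-- A blow-up centred off a dense open is surjective, if proper. -/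
theorem surjective_blowUp {b : Y' ⟶ Y} {𝓘 : Y.IdealSheafData} (hb : BlowUp.IsBlowUp b 𝓘) [IsProper b]
    (U : Y.Opens) (hU : (𝓘.support : Set Y) = (U : Set Y)ᶜ) (hd : Dense (U : Set Y)) : Surjective b := by
  haveI := BlowUp.Basic.isIso_restrict hb U (by rw [hU]; exact disjoint_compl_right)
  have hsub : (U : Set Y) ⊆ Set.range b := fun y hy => by
    obtain ⟨z, hz⟩ := (b ∣_ U).surjective ⟨y, hy⟩
    exact ⟨(b ⁻¹ᵁ U).ι z, by rw [← Scheme.Hom.comp_apply, ← morphismRestrict_ι, Scheme.Hom.comp_apply, hz]; rfl⟩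
  refine ⟨fun y => ?_⟩
  have hy := closure_mono hsub (hd y)
  rwa [b.isClosedMap.isClosed_range.closure_eq] at hy

/-- Points with a generization off the exceptional divisor lie on the strict transform. -/
theorem mem_strict {f : X ⟶ Y} {b : Y' ⟶ Y} {𝓘 : Y.IdealSheafData} (hb : BlowUp.IsBlowUp b 𝓘)
    (U : Y.Opens) (hU : (𝓘.support : Set Y) = (U : Set Y)ᶜ) {p₁ : X' ⟶ X} {p₂ : X' ⟶ Y'}
    (h : IsPullback p₁ p₂ f b) {𝒥 : X'.IdealSheafData}
    (hJ : ∀ (W : X'.affineOpens) (a : Γ(X', W.1)), a ∈ 𝒥.ideal W ↔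
      BlowUp.KilledByPowerNear ((𝓘.comap f).comap p₁) (Coh.structureModule X') W a)
    {x x' : X'} (hx : x' ⤳ x) (hx' : b (p₂ x') ∈ U) : x ∈ Set.range 𝒥.subschemeι := by
  have hloc := RG.StrictSub.isLocPrincipal_exceptional hb h.w
  obtain rfl := RG.StrictSub.eq_supportedOn hloc hJ
  haveI := HTopSq.quasiCompact_awayFrom_ι hloc
  rw [Scheme.IdealSheafData.range_subschemeι, HTop.supportedOn, Scheme.Hom.support_ker]
  refine hx.mem_closed isClosed_closure (subset_closure ?_)
  rw [Scheme.Opens.range_ι]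
  show x' ∉ (((𝓘.comap f).comap p₁).support : Set X')
  rw [Scheme.IdealSheafData.support_comap, Scheme.IdealSheafData.support_comap]
  intro hmem
  have h1 : f (p₁ x') ∈ (𝓘.support : Set Y) := hmem
  rw [← Scheme.Hom.comp_apply, h.w, Scheme.Hom.comp_apply, hU] at h1
  exact h1 hx'

/-- Every point of the blow-up has a generization off the divisor. -/
theorem exists_specializes {b : Y' ⟶ Y} {𝓘 : Y.IdealSheafData} (hb : BlowUp.IsBlowUp b 𝓘)
    [CompactSpace Y] [QuasiSeparatedSpace Y]
    (U : Y.Opens) (hU : (𝓘.support : Set Y) = (U : Set Y)ᶜ) (hUc : IsCompact (U : Set Y)) (y : Y') :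
    ∃ y', b y' ∈ U ∧ y' ⤳ y := by
  haveI : CompactSpace U.toScheme := isCompact_iff_compactSpace.1 hUc
  haveI : QuasiCompact U.ι := quasiCompact_of_compactSpace U.ι
  have hP : ProCons.IsProConstructible (U : Set Y) := by
    have := FDesc.ProConsImage.isProConstructible_image U.ι (LimTop.isProConstructible_of_isClosed isClosed_univ)
    rwa [Set.image_univ, Scheme.Opens.range_ι] at this
  obtain ⟨z, hz, hzy⟩ := LimTop.exists_specializes_of_mem_closure (LimTop.isProConstructible_preimage b hP)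
    (dense_preimage hb U hU y)
  exact ⟨z, hz, hzy⟩

/-- The sections supported on a locally principal ideal are those killed by a power of it. -/
theorem mem_supportedOn_iff_killed {J : X.IdealSheafData} (hJ : HTop.IsLocPrincipal J) (W : X.affineOpens)
    (a : Γ(X, W.1)) : a ∈ (HTop.supportedOn J).ideal W ↔
      BlowUp.KilledByPowerNear J (Coh.structureModule X) W a := by
  classical
  have hloc : ∀ x ∈ W.1, ∃ (V : X.affineOpens) (c : Γ(X, V.1)),
      x ∈ V.1 ∧ V.1 ≤ W.1 ∧ J.ideal V = Ideal.span {c} := by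
    intro x hx
    obtain ⟨U, hxU, c, hc⟩ := hJ x
    obtain ⟨V, hxV, hV⟩ := IdealSh.Comap.exists_affine_le x (W.1 ⊓ U.1) ⟨hx, hxU⟩
    exact ⟨V, _, hxV, hV.trans inf_le_left, IdealSh.EffCartier.restrict_eq (hV.trans inf_le_right) hc⟩
  choose g c hxg hgW hc using hloc
  have hcov : W.1 ≤ ⨆ x : W.1, (g x.1 x.2).1 := fun x hx => Opens.mem_iSup.2 ⟨⟨x, hx⟩, hxg x hx⟩
  constructor
  · intro ha
    obtain ⟨t, ht⟩ := W.2.isCompact.elim_finite_subcover (fun x : W.1 => ((g x.1 x.2).1 : Set X))
      (fun x => (g x.1 x.2).1.2) (fun x hx => Set.mem_iUnion.2 ⟨⟨x, hx⟩, hxg x hx⟩)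
    have hn : ∀ x : W.1, ∃ n, c x.1 x.2 ^ n *
        X.presheaf.map (homOfLE (hgW x.1 x.2)).op a = 0 := by
      intro x
      have h1 := (HTop.supportedOn J).map_ideal (U := g x.1 x.2) (V := W) (hgW _ _)
      have h2 : X.presheaf.map (homOfLE (hgW x.1 x.2)).op a ∈
          (HTop.supportedOn J).ideal (g x.1 x.2) := h1 ▸ Ideal.mem_map_of_mem _ ha
      rw [HTopSq.mem_supportedOn hJ (hc x.1 x.2)] at h2
      haveI := (g x.1 x.2).2.isLocalization_basicOpen (c x.1 x.2)
      obtain ⟨⟨_, n, rfl⟩, hn⟩ := (IsLocalization.map_eq_zero_iff (Submonoid.powers (c x.1 x.2))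
        Γ(X, X.basicOpen (c x.1 x.2)) _).1 h2
      exact ⟨n, hn⟩
    choose n hn using hn
    refine ⟨t.sup n, fun z hz => ?_⟩
    show (z * a : Γ(X, W.1)) = 0
    refine TopCat.Sheaf.eq_of_locally_eq' X.sheaf (fun x : t => (g x.1.1 x.1.2).1) W.1
      (fun x => homOfLE (hgW _ _)) (fun y hy => ?_) _ _ fun x => ?_
    · obtain ⟨x, hx, hy⟩ := Set.mem_iUnion₂.1 (ht hy)
      exact Opens.mem_iSup.2 ⟨⟨x, hx⟩, hy⟩
    have h3 : X.presheaf.map (homOfLE (hgW x.1.1 x.1.2)).op z ∈
        Ideal.span {c x.1.1 x.1.2 ^ t.sup n} := by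
      rw [← Ideal.span_singleton_pow, ← hc x.1.1 x.1.2]
      have h4 := (J ^ t.sup n).map_ideal (U := g x.1.1 x.1.2) (V := W) (hgW _ _)
      rw [Scheme.IdealSheafData.ideal_pow, Pi.pow_apply, Pi.pow_apply] at h4
      rw [Scheme.IdealSheafData.ideal_pow, Pi.pow_apply] at hz
      exact h4 ▸ Ideal.mem_map_of_mem _ hz
    obtain ⟨d, hd⟩ := Ideal.mem_span_singleton.1 h3
    obtain ⟨k, hk⟩ := Nat.exists_eq_add_of_le (Finset.le_sup (f := n) x.2)
    show X.presheaf.map _ (z * a) = X.presheaf.map _ 0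
    rw [map_mul, map_zero, hd, hk, pow_add]
    linear_combination (c x.1.1 x.1.2 ^ k * d) * hn x.1
  · rintro ⟨n, hn⟩
    haveI := HTopSq.quasiCompact_awayFrom_ι hJ
    rw [HTop.supportedOn, Scheme.Hom.ker_apply, RingHom.mem_ker]
    refine TopCat.Sheaf.eq_of_locally_eq' (HTop.awayFrom J).toScheme.sheaf
      (fun x : W.1 => (HTop.awayFrom J).ι ⁻¹ᵁ (g x.1 x.2).1) _
      (fun x => homOfLE ((HTop.awayFrom J).ι.preimage_mono (hgW _ _))) (fun y hy => ?_) _ _ fun x => ?_
    · obtain ⟨x, hx⟩ := Opens.mem_iSup.1 (hcov hy)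
      exact Opens.mem_iSup.2 ⟨x, hx⟩
    have h1 : X.presheaf.map (homOfLE (hgW x.1 x.2)).op a ∈
        (HTop.supportedOn J).ideal (g x.1 x.2) := by
      rw [HTopSq.mem_supportedOn hJ (hc x.1 x.2)]
      haveI := (g x.1 x.2).2.isLocalization_basicOpen (c x.1 x.2)
      refine (IsLocalization.map_eq_zero_iff (Submonoid.powers (c x.1 x.2))
        Γ(X, X.basicOpen (c x.1 x.2)) _).2 ⟨⟨_, n, rfl⟩, ?_⟩
      have h2 : c x.1 x.2 ^ n ∈ ((J.ideal W) ^ n).map (X.presheaf.map (homOfLE (hgW x.1 x.2)).op).hom := by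
        rw [Ideal.map_pow, show (J.ideal W).map (X.presheaf.map (homOfLE (hgW x.1 x.2)).op).hom =
          J.ideal (g x.1 x.2) from J.map_ideal (U := g x.1 x.2) (V := W) (hgW _ _), hc x.1 x.2]
        exact Ideal.pow_mem_pow (Ideal.mem_span_singleton_self _) n
      show c x.1 x.2 ^ n * X.presheaf.map (homOfLE (hgW x.1 x.2)).op a = 0
      suffices key : ∀ q ∈ ((J.ideal W) ^ n).map (X.presheaf.map (homOfLE (hgW x.1 x.2)).op).hom,
          q * X.presheaf.map (homOfLE (hgW x.1 x.2)).op a = 0 from key _ h2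
      intro q hq
      clear h2
      induction hq using Submodule.span_induction with
      | mem z hz =>
        obtain ⟨z, hz, rfl⟩ := hz
        have h3 : z * a = 0 := hn z (by rwa [Scheme.IdealSheafData.ideal_pow, Pi.pow_apply])
        rw [← map_mul, h3, map_zero]
      | zero => rw [zero_mul]
      | add p q _ _ hp hq => rw [add_mul, hp, hq, add_zero]
      | smul r p _ hp => rw [smul_eq_mul, mul_assoc, hp, mul_zero]
    rw [HTop.supportedOn, Scheme.Hom.ker_apply, RingHom.mem_ker] at h1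
    refine Eq.trans ?_ (map_zero _).symm
    refine Eq.trans ?_ h1
    exact (RingHom.congr_fun (congrArg CommRingCat.Hom.hom
      ((HTop.awayFrom J).ι.naturality (homOfLE (hgW x.1 x.2)).op)) a).symm

/-- Flattening of a universally open surjection over a Noetherian scheme. -/
theorem exists_nilImmersion_noetherian [IsNoetherian Y] (f : X ⟶ Y) [LocallyOfFinitePresentation f]
    [QuasiCompact f] [QuasiSeparated f] [UniversallyOpen f] :
    ∃ (Y' : Scheme.{u}) (q : Y' ⟶ Y) (X' : Scheme.{u}) (r : X' ⟶ pullback f q),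
      IsProper q ∧ Surjective q ∧ LocallyOfFinitePresentation q ∧
      IsClosedImmersion r ∧ Surjective r ∧
      Flat (r ≫ pullback.snd f q) ∧
      LocallyOfFinitePresentation (r ≫ pullback.snd f q) ∧ QuasiCompact (r ≫ pullback.snd f q) ∧
      QuasiSeparated (r ≫ pullback.snd f q) := by
  let I := Scheme.IdealSheafData.vanishingIdeal (⊤ : Closeds Y)
  let ι : I.subscheme ⟶ Y := I.subschemeι
  haveI : IsReduced I.subscheme := RedSub.isReduced_vanishingIdeal _
  haveI : IsLocallyNoetherian I.subscheme := LocallyOfFiniteType.isLocallyNoetherian ι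
  haveI : CompactSpace I.subscheme := QuasiCompact.compactSpace_of_compactSpace ι
  haveI : AlgebraicGeometry.IsNoetherian I.subscheme := {}
  haveI hιs : Surjective ι := ⟨fun y => by
    have : y ∈ Set.range ι := by rw [RedSub.range_vanishingIdeal_subschemeι]; trivial
    exact this⟩
  let f₁ := pullback.snd f ι
  obtain ⟨U, hd, hUc, hfl⟩ := S14790.result (TopologicalSpace.NoetherianSpace.isCompact _) f₁
  haveI := hfl
  haveI : LocallyOfFinitePresentation (f₁ ∣_ U) :=
    MorphismProperty.of_isPullback (P := @LocallyOfFinitePresentation) (isPullback_morphismRestrict f₁ U).flip inferInstance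
  obtain ⟨𝓘, Y', b, hb, hadm, hsupp, h⟩ := RG.FTStrict.exists_strict f₁ U hUc
  haveI : IsProper b := BlowUpProper.Basic.isProper hb hadm.1
  haveI := surjective_blowUp hb U hsupp hd
  let q := b ≫ ι
  let P := pullback f q
  let p₁ : P ⟶ pullback f ι := pullback.lift (pullback.fst f q) (pullback.snd f q ≫ b)
    (by rw [pullback.condition, Category.assoc])
  have hpb : IsPullback p₁ (pullback.snd f q) f₁ b := by
    refine IsPullback.of_right (h₁₁ := p₁) (h₁₂ := pullback.fst f ι) (v₁₃ := f) (h₂₂ := ι) ?_ ?_ ?_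
    · rw [pullback.lift_fst]; exact IsPullback.of_hasPullback f q
    · exact pullback.lift_snd _ _ _
    · exact IsPullback.of_hasPullback f ι
  let E := (𝓘.comap f₁).comap p₁
  have hJ : ∀ (W : P.affineOpens) (a : Γ(P, W.1)), a ∈ (HTop.supportedOn E).ideal W ↔
      BlowUp.KilledByPowerNear E (Coh.structureModule P) W a :=
    mem_supportedOn_iff_killed (RG.StrictSub.isLocPrincipal_exceptional hb hpb.w)
  obtain ⟨h1, h2, h3, h4⟩ := h P p₁ _ hpb _ hJ
  have hrs : Surjective (HTop.supportedOn E).subschemeι := ⟨fun x => by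
    obtain ⟨y', hy', hsp⟩ := exists_specializes hb U hsupp hUc (pullback.snd f q x)
    obtain ⟨x', hx', rfl⟩ := S10837.result (pullback.snd f q) (pullback.snd f q).isOpenMap hsp
    exact mem_strict hb U hsupp hpb hJ hx' hy'⟩
  refine ⟨Y', q, _, (HTop.supportedOn E).subschemeι, inferInstance, inferInstance, inferInstance, inferInstance,
    hrs, h1, h2, h3, h4⟩

end Groth.Agent.SubtrFlat
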