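import Mathlib
import Groth.Agent.SubtrFlat.Strict
import Groth.Agent.S14793
import Groth.Agent.S13732
import Groth.Agent.S1375

/-!
# Refining h-coverings by a blow-up and a finite map
-/

set_option autoImplicit false
set_option linter.style.haveILetI false
set_option backward.isDefEq.respectTransparency.types false

universe u

open AlgebraicGeometry CategoryTheory Limits TopologicalSpace

namespace Groth.Agent.SubtrFlat

/-- Flat surjections are universally subtrusive. -/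
theorem univSSubtrusive_of_flat {X Y : Scheme.{u}} (f : X ⟶ Y) [Flat f] [Surjective f] :
    Subtr.UnivSSubtrusive f := by
  intro X' Y' q₁ q₂ f' h y y' hy
  haveI : Flat f' := MorphismProperty.of_isPullback h.flip ‹Flat f›
  haveI : Surjective f' := MorphismProperty.of_isPullback h.flip ‹Surjective f›
  obtain ⟨x, rfl⟩ := f'.surjective y
  obtain ⟨x', hx', rfl⟩ := Flat.generalizingMap f' hy
  exact ⟨x, x', hx', rfl, rfl⟩

/-- A lift to a finite coproduct splits into lifts to its members, locally. -/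
theorem exists_split_cover {Y Q : Scheme.{u}} (E : PreZeroHypercover.{u} Y) [Finite E.I₀] (q : Q ⟶ Y) {n : ℕ}
    (V : Fin n → Q.Opens) (hcov : ⨆ j, V j = ⊤)
    (hl : ∀ j, ∃ g : (V j : Scheme.{u}) ⟶ ∐ E.X, g ≫ Limits.Sigma.desc E.f = (V j).ι ≫ q) :
    ∃ (m : ℕ) (W : Fin m → Q.Opens), ⨆ k, W k = ⊤ ∧
      ∀ k, ∃ (c : E.I₀) (h : (W k : Scheme.{u}) ⟶ E.X c), h ≫ E.f c = (W k).ι ≫ q := by
  classical
  choose g hg using hl
  let W : (Σ j : Fin n, E.I₀) → Q.Opens := fun p => (V p.1).ι ''ᵁ (g p.1 ⁻¹ᵁ (Limits.Sigma.ι E.X p.2).opensRange)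
  obtain ⟨m, ⟨e⟩⟩ := Finite.exists_equiv_fin (Σ j : Fin n, E.I₀)
  refine ⟨m, fun k => W (e.symm k), eq_top_iff.2 fun y _ => ?_, fun k => ?_⟩
  · obtain ⟨j, hj⟩ := Opens.mem_iSup.1 (hcov.ge (Opens.mem_top y))
    obtain ⟨c, z, hz⟩ := (sigmaOpenCover E.X).exists_eq (g j ⟨y, hj⟩)
    exact Opens.mem_iSup.2 ⟨e ⟨j, c⟩, by
      show y ∈ W (e.symm (e _))
      erw [Equiv.symm_apply_apply]; exact ⟨⟨y, hj⟩, ⟨z, hz⟩, rfl⟩⟩
  · show ∃ (c : E.I₀) (h : (W (e.symm k) : Scheme.{u}) ⟶ E.X c), h ≫ E.f c = (W (e.symm k)).ι ≫ q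
    generalize e.symm k = p
    obtain ⟨j, c⟩ := p
    let O := g j ⁻¹ᵁ (Limits.Sigma.ι E.X c).opensRange
    have hr : Set.range (O.ι ≫ g j) ⊆ Set.range (Limits.Sigma.ι E.X c) := by
      rintro _ ⟨x, rfl⟩
      exact x.2
    refine ⟨c, ((V j).ι.isoImage O).inv ≫ IsOpenImmersion.lift _ _ hr, ?_⟩
    have e : IsOpenImmersion.lift (Limits.Sigma.ι E.X c) (O.ι ≫ g j) hr ≫ E.f c = O.ι ≫ (V j).ι ≫ q := by
      rw [← hg j, ← Limits.Sigma.ι_desc E.f c, IsOpenImmersion.lift_fac_assoc, Category.assoc]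
    rw [Category.assoc, e, ← Category.assoc O.ι, ← Scheme.Hom.isoImage_hom_ι, Category.assoc,
      Iso.inv_hom_id_assoc]

/-- A flat finitely presented surjection over a Noetherian separated scheme is refined by a finite
surjection, Zariski locally on the source. -/
theorem exists_finite_refinement {Z S : Scheme.{u}} [IsNoetherian S] [S.IsSeparated] (g : Z ⟶ S) [Flat g]
    [LocallyOfFinitePresentation g] [Surjective g] :
    ∃ (S' : Scheme.{u}) (p : S' ⟶ S) (n : ℕ) (V : Fin n → S'.Opens), IsFinite p ∧ Surjective p ∧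
      ⨆ i, V i = ⊤ ∧ ∀ i, ∃ h : (V i : Scheme.{u}) ⟶ Z, h ≫ g = (V i).ι ≫ p := by
  classical
  obtain ⟨t, ht⟩ := (isCompact_univ (X := S)).elim_finite_subcover
    (fun W : S.affineOpens => (W.1 : Set S)) (fun W => W.1.2) fun x _ => by
      obtain ⟨W, hW, hxW, -⟩ := exists_isAffineOpen_mem_and_subset (Opens.mem_top x)
      exact Set.mem_iUnion.2 ⟨⟨W, hW⟩, hxW⟩
  choose T π r hT hfl hfp hqf hs hw using fun W : t => S1375.exists_affine_refinement g W.1.1 W.1.2
  let E : PreZeroHypercover.{u} S := { I₀ := t, X := T, f := fun W => π W ≫ W.1.1.ι }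
  haveI : Finite E.I₀ := inferInstanceAs (Finite t)
  haveI hfl' : ∀ W, Flat (E.f W) := fun W => by haveI := hfl W; exact inferInstanceAs (Flat (π W ≫ W.1.1.ι))
  haveI : ∀ W, LocallyOfFiniteType (E.f W) := fun W => by
    haveI := hfp W; exact inferInstanceAs (LocallyOfFiniteType (π W ≫ W.1.1.ι))
  haveI : ∀ W, LocallyQuasiFinite (E.f W) := fun W => by
    haveI := hqf W; exact inferInstanceAs (LocallyQuasiFinite (π W ≫ W.1.1.ι))
  haveI : ∀ W, IsSeparated (E.f W) := fun W => by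
    haveI := hT W
    haveI : IsAffine (W.1.1 : Scheme.{u}) := W.1.2
    exact inferInstanceAs (IsSeparated (π W ≫ W.1.1.ι))
  haveI : ∀ W, QuasiCompact (E.f W) := fun W => by
    haveI := hT W
    haveI : CompactSpace (E.X W) := inferInstanceAs (CompactSpace (T W))
    exact quasiCompact_of_compactSpace _
  let d : (∐ E.X) ⟶ S := Limits.Sigma.desc E.f
  haveI : Flat d := IsZariskiLocalAtSource.sigmaDesc (P := @Flat) hfl'
  haveI : Surjective d := ⟨fun y => by
    obtain ⟨W, hW, hy⟩ := Set.mem_iUnion₂.1 (ht (Set.mem_univ y))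
    haveI := hs ⟨W, hW⟩
    obtain ⟨z, hz⟩ := (π ⟨W, hW⟩).surjective ⟨y, hy⟩
    refine ⟨Limits.Sigma.ι E.X ⟨W, hW⟩ z, ?_⟩
    rw [← Scheme.Hom.comp_apply, Limits.Sigma.ι_desc]
    show (π ⟨W, hW⟩ ≫ W.1.ι) z = y
    rw [Scheme.Hom.comp_apply, hz]
    rfl⟩
  haveI : ∀ W, CompactSpace (E.X W) := fun W => by haveI := hT W; exact inferInstanceAs (CompactSpace (T W))
  haveI : Finite (sigmaOpenCover E.X).I₀ := ‹Finite E.I₀›
  haveI : ∀ i, CompactSpace ((sigmaOpenCover E.X).X i) := fun i => inferInstanceAs (CompactSpace (E.X i))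
  haveI : CompactSpace (∐ E.X : Scheme.{u}) := Scheme.OpenCover.compactSpace (sigmaOpenCover E.X)
  haveI : QuasiCompact d := quasiCompact_of_compactSpace d
  obtain ⟨S', p, n, V, hp, hps, hV, hl⟩ :=
    S13732.result E (SubtrLib.univSubmersive_of_univSSubtrusive d (univSSubtrusive_of_flat d))
  refine ⟨S', p, n, V, hp, hps, hV, fun i => ?_⟩
  obtain ⟨W, h, hh⟩ := hl i
  exact ⟨h ≫ r W, by rw [Category.assoc, hw W]; exact hh⟩

/-- Voevodsky's normal form of h-coverings. -/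
theorem exists_blowUp_finite_refinement {Y : Scheme.{u}} [IsNoetherian Y] [Y.IsSeparated]
    (E : PreZeroHypercover.{u} Y) [Finite E.I₀] [∀ j, LocallyOfFiniteType (E.f j)] [∀ j, QuasiCompact (E.f j)]
    (hE : SGA1.UnivSubmersive (Limits.Sigma.desc E.f)) :
    ∃ (Yr Y'' Y' : Scheme.{u}) (ι : Yr ⟶ Y) (𝓘 : Yr.IdealSheafData) (b : Y'' ⟶ Yr) (q : Y' ⟶ Y'') (n : ℕ)
      (V : Fin n → Y'.Opens), IsClosedImmersion ι ∧ Surjective ι ∧ IsReduced Yr ∧ BlowUp.IsBlowUp b 𝓘 ∧
      Surjective b ∧ IsFinite q ∧ Surjective q ∧ IsProper (q ≫ b ≫ ι) ∧ Surjective (q ≫ b ≫ ι) ∧ ⨆ i, V i = ⊤ ∧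
      ∀ i, ∃ (j : E.I₀) (h : (↑(V i) : Scheme.{u}) ⟶ E.X j), h ≫ E.f j = (V i).ι ≫ q ≫ b ≫ ι := by
  classical
  let f : (∐ E.X) ⟶ Y := Limits.Sigma.desc E.f
  haveI : LocallyOfFiniteType f := IsZariskiLocalAtSource.sigmaDesc (P := @LocallyOfFiniteType) fun k => inferInstance
  haveI : LocallyOfFinitePresentation f := inferInstance
  haveI : ∀ j, CompactSpace (E.X j) := fun j => QuasiCompact.compactSpace_of_compactSpace (E.f j)
  haveI : Finite (sigmaOpenCover E.X).I₀ := ‹Finite E.I₀›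
  haveI : ∀ i, CompactSpace ((sigmaOpenCover E.X).X i) := fun i => inferInstanceAs (CompactSpace (E.X i))
  haveI : CompactSpace (∐ E.X : Scheme.{u}) := Scheme.OpenCover.compactSpace (sigmaOpenCover E.X)
  haveI : QuasiCompact f := quasiCompact_of_compactSpace f
  haveI : IsLocallyNoetherian (∐ E.X : Scheme.{u}) := LocallyOfFiniteType.isLocallyNoetherian f
  haveI : QuasiSeparated f := QuasiSeparated.of_quasiSeparatedSpace f
  let I := Scheme.IdealSheafData.vanishingIdeal (⊤ : Closeds Y)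
  let ι : I.subscheme ⟶ Y := I.subschemeι
  haveI : IsReduced I.subscheme := RedSub.isReduced_vanishingIdeal _
  haveI : IsLocallyNoetherian I.subscheme := LocallyOfFiniteType.isLocallyNoetherian ι
  haveI : CompactSpace I.subscheme := QuasiCompact.compactSpace_of_compactSpace ι
  haveI : AlgebraicGeometry.IsNoetherian I.subscheme := {}
  haveI : Surjective ι := ⟨fun y => by
    have : y ∈ Set.range ι := by rw [RedSub.range_vanishingIdeal_subschemeι]; trivial
    exact this⟩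
  obtain ⟨U, 𝓘, Y'', b, -, -, hb, hadm, hbs, h⟩ := S14793.result
    (NoetherianSpace.isCompact _) (pullback.snd f ι)
    ((MorphismProperty.universally_isStableUnderBaseChange _).of_isPullback (IsPullback.of_hasPullback f ι)
      (SubtrLib.univSSubtrusive_of_univSubmersive f hE))
  haveI : IsProper b := BlowUpProper.Basic.isProper hb hadm.1
  haveI := hbs
  have hpb := IsPullback.of_hasPullback (pullback.snd f ι) b
  obtain ⟨hfl, hsu, hfp, -, -⟩ := h _ _ _ hpb _
    (mem_supportedOn_iff_killed (RG.StrictSub.isLocPrincipal_exceptional hb hpb.w))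
  haveI := hfl
  haveI := hsu
  haveI := hfp
  haveI : IsLocallyNoetherian Y'' := LocallyOfFiniteType.isLocallyNoetherian b
  haveI : CompactSpace Y'' := QuasiCompact.compactSpace_of_compactSpace b
  haveI : AlgebraicGeometry.IsNoetherian Y'' := {}
  haveI : Y''.IsSeparated := ⟨by
    rw [← terminal.comp_from (b ≫ ι)]
    infer_instance⟩
  obtain ⟨Y', q, n, V, hq, hqs, hV, hl⟩ := exists_finite_refinement
    ((HTop.supportedOn ((𝓘.comap (pullback.snd f ι)).comap (pullback.fst (pullback.snd f ι) b))).subschemeι ≫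
      pullback.snd (pullback.snd f ι) b)
  haveI := hq
  haveI := hqs
  obtain ⟨m, W, hW, hWl⟩ := exists_split_cover E (q ≫ b ≫ ι) V hV fun i => by
    obtain ⟨l, hl⟩ := hl i
    refine ⟨l ≫ (HTop.supportedOn _).subschemeι ≫ pullback.fst _ b ≫ pullback.fst f ι, ?_⟩
    rw [← reassoc_of% hl]
    simp only [Category.assoc, ← pullback.condition_assoc]
    rw [pullback.condition]
  exact ⟨_, Y'', Y', ι, 𝓘, b, q, m, W, inferInstance, inferInstance, inferInstance, hb, hbs, hq, hqs,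
    inferInstance, inferInstance, hW, hWl⟩

end Groth.Agent.SubtrFlat
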