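import Mathlib
import Groth.Agent.RG.FTStrict
import Groth.Agent.SubtrFlat.Strict
import Groth.Agent.HTopSq.Exists
import Groth.Agent.FlatDescends.Basic
import Groth.Agent.LimLib.FGIdeal
import Groth.Agent.S8983

/-!
# Flattening by almost blow ups
-/

set_option autoImplicit false
set_option linter.style.haveILetI false
set_option maxHeartbeats 1600000
set_option backward.isDefEq.respectTransparency.types false

universe u

open CategoryTheory CategoryTheory.Limits AlgebraicGeometry TopologicalSpace Opposite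

namespace Groth.Agent.SubtrFlat

/-- Maps into an almost blow up which pull the centre back to a Cartier divisor are determined by
their composite to the base. -/
theorem hom_ext_almost {E Z X' X S : Scheme.{u}} {e : E ⟶ X'} {π : E ⟶ Z} {b : X' ⟶ X} {i : Z ⟶ X}
    (h : HTop.IsAlmostBlowUpSquare e π b i) {u₁ u₂ : S ⟶ X'} (hu : u₁ ≫ b = u₂ ≫ b)
    (hc : BlowUp.IsEffCartierIdeal (i.ker.comap (u₁ ≫ b))) : u₁ = u₂ := by
  have key : ∀ w : S ⟶ X', w ≫ b = u₁ ≫ b →
      ∃ v, v ≫ (HTop.supportedOn (i.ker.comap b)).subschemeι = w := by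
    intro w hw
    have hc' : BlowUp.IsEffCartierIdeal ((i.ker.comap b).comap w) := by
      rw [← Scheme.IdealSheafData.comap_comp, hw]; exact hc
    exact ⟨IsClosedImmersion.lift _ w (by
      rw [Scheme.IdealSheafData.ker_subschemeι]; exact HTopSq.supportedOn_le_ker w hc'),
      IsClosedImmersion.lift_fac _ _ _⟩
  obtain ⟨v₁, rfl⟩ := key u₁ rfl
  obtain ⟨v₂, rfl⟩ := key u₂ hu.symm
  rw [BlowUp.Basic.hom_ext h.isBlowUp (g₁ := v₁) (g₂ := v₂) (by rw [← Category.assoc]; exact hc)
    (by simpa only [Category.assoc] using hu)]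

/-- Flattening by almost blow ups. -/
theorem exists_almostBlowUp_flattening {X Y : Scheme.{u}} [CompactSpace Y] [QuasiSeparatedSpace Y] (f : X ⟶ Y)
    [LocallyOfFinitePresentation f] [QuasiCompact f] [QuasiSeparated f] (V : Y.Opens)
    (hV : IsCompact (V : Set Y)) [Flat (f ∣_ V)] :
    ∃ (Z Y' E T X' D : Scheme.{u}) (iZ : Z ⟶ Y) (bY : Y' ⟶ Y) (eE : E ⟶ Y') (πE : E ⟶ Z) (iT : T ⟶ X)
      (bX : X' ⟶ X) (eD : D ⟶ X') (πD : D ⟶ T) (fZ : T ⟶ Z) (f' : X' ⟶ Y') (fE : D ⟶ E),
      HTop.IsAlmostBlowUpSquare eE πE bY iZ ∧ HTop.IsAlmostBlowUpSquare eD πD bX iT ∧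
      IsPullback fZ iT iZ f ∧ IsPullback fE eD eE f' ∧ f' ≫ bY = bX ≫ f ∧ πD ≫ fZ = fE ≫ πE ∧
      iZ ⁻¹ᵁ V = ⊥ ∧ Flat f' ∧ LocallyOfFinitePresentation f' := by
  classical
  haveI : LocallyOfFinitePresentation (f ∣_ V) :=
    MorphismProperty.of_isPullback (P := @LocallyOfFinitePresentation) (isPullback_morphismRestrict f V).flip ‹_›
  obtain ⟨𝓘, B, b, hb, hadm, -, h⟩ := RG.FTStrict.exists_strict f V hV
  let iZ := 𝓘.subschemeι
  haveI : LocallyOfFinitePresentation iZ := (LimLib.lfp_subschemeι_iff 𝓘).mpr hadm.1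
  have hker : iZ.ker = 𝓘 := Scheme.IdealSheafData.ker_subschemeι _
  obtain ⟨E₀, Y₀, e₀, π₀, b₀, h₀⟩ := HTopSq.exists_square iZ
  haveI := h₀.isProper
  haveI := h₀.finitePresentation
  obtain ⟨θ, hθ⟩ := BlowUp.Basic.exists_iso (hker.symm ▸ hb : BlowUp.IsBlowUp b iZ.ker) h₀.isBlowUp
  let σ₀ := (HTop.supportedOn (iZ.ker.comap b₀)).subschemeι
  obtain ⟨σ, hσcl, hσb, hσk⟩ : ∃ σ : B ⟶ Y₀, IsClosedImmersion σ ∧ σ ≫ b₀ = b ∧
      σ.ker ≤ HTop.supportedOn (iZ.ker.comap b₀) := by
    refine ⟨θ.inv ≫ σ₀, inferInstance, ?_, ?_⟩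
    · rw [Category.assoc, Iso.inv_comp_eq]; exact hθ.symm
    · rw [Scheme.Hom.ker_comp_of_isIso, Scheme.IdealSheafData.ker_subschemeι]
  haveI := hσcl
  haveI : IsProper b := by rw [← hσb]; infer_instance
  haveI : CompactSpace Y₀ := QuasiCompact.compactSpace_of_compactSpace b₀
  haveI : QuasiSeparatedSpace Y₀ := quasiSeparatedSpace_of_quasiSeparated b₀
  obtain ⟨J, _, _, _, F, hF, hK⟩ := LimLib.exists_iSup_fg_eq σ.ker
  haveI hlfp : ∀ j : J, LocallyOfFinitePresentation (F j).subschemeι := fun j =>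
    (LimLib.lfp_subschemeι_iff (F j)).mpr (hF j)
  -- the system over `X ×_Y Y₀`
  let q := pullback.snd f b₀
  haveI : LocallyOfFinitePresentation q := inferInstanceAs (LocallyOfFinitePresentation (pullback.snd f b₀))
  haveI : CompactSpace ↑(pullback f b₀) := QuasiCompact.compactSpace_of_compactSpace q
  haveI : QuasiSeparatedSpace ↑(pullback f b₀) := quasiSeparatedSpace_of_quasiSeparated q
  let F' : J →o (pullback f b₀).IdealSheafData :=
    ⟨fun j => (F j).comap q, fun _ _ hab => Scheme.IdealSheafData.comap_mono q (F.mono hab)⟩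
  let σP : pullback f b ⟶ pullback f b₀ := pullback.lift (pullback.fst f b) (pullback.snd f b ≫ σ)
    (by rw [pullback.condition, Category.assoc, hσb])
  have hσP : IsPullback (pullback.snd f b) σP σ q := by
    refine (IsPullback.of_right (h₁₁ := σP) (h₁₂ := pullback.fst f b₀) (v₁₃ := f) (h₂₂ := b₀) ?_
      (pullback.lift_snd _ _ _) (IsPullback.of_hasPullback f b₀)).flip
    rw [pullback.lift_fst, hσb]
    exact IsPullback.of_hasPullback f b
  haveI : IsClosedImmersion σP := MorphismProperty.of_isPullback hσP inferInstance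
  have hK' : ⨆ j, F' j = σP.ker := by
    rw [HTopSq.ker_isPullback hσP, ← hK]
    exact (Scheme.IdealSheafData.map_gc q).l_iSup.symm
  haveI : IsConnected Jᵒᵖ := IsCofiltered.isConnected _
  let D : Jᵒᵖ ⥤ Scheme.{u} := LimLib.idealDiagram F ⋙ Over.forget _
  let c : Cone D := (Over.forget _).mapCone (LimLib.idealCone F σ hK)
  have hc : IsLimit c := isLimitOfPreserves _ (LimLib.isLimitIdealCone F σ hK)
  let D' : Jᵒᵖ ⥤ Scheme.{u} := LimLib.idealDiagram F' ⋙ Over.forget _
  let c' : Cone D' := (Over.forget _).mapCone (LimLib.idealCone F' σP hK')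
  have hc' : IsLimit c' := isLimitOfPreserves _ (LimLib.isLimitIdealCone F' σP hK')
  haveI : ∀ (a a' : Jᵒᵖ) (φ : a ⟶ a'), IsAffineHom (D.map φ) := fun a a' φ => by
    haveI : IsClosedImmersion (D.map φ) := inferInstanceAs (IsClosedImmersion ((LimLib.idealDiagram F).map φ).left)
    infer_instance
  haveI : ∀ (a a' : Jᵒᵖ) (φ : a ⟶ a'), IsAffineHom (D'.map φ) := fun a a' φ => by
    haveI : IsClosedImmersion (D'.map φ) := inferInstanceAs (IsClosedImmersion ((LimLib.idealDiagram F').map φ).left)
    infer_instance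
  haveI hci : ∀ j : J, IsClosedImmersion (F j).subschemeι := fun j => IsClosedImmersion.instSubschemeι _
  haveI hci' : ∀ j : J, IsClosedImmersion (F' j).subschemeι := fun j => IsClosedImmersion.instSubschemeι _
  haveI hqc : ∀ j : J, QuasiCompact (F j).subschemeι := fun j => by haveI := hci j; infer_instance
  haveI hqs : ∀ j : J, QuasiSeparated (F j).subschemeι := fun j => by haveI := hci j; infer_instance
  haveI hqc' : ∀ j : J, QuasiCompact (F' j).subschemeι := fun j => by haveI := hci' j; infer_instance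
  haveI hqs' : ∀ j : J, QuasiSeparated (F' j).subschemeι := fun j => by haveI := hci' j; infer_instance
  haveI hcD : ∀ a, CompactSpace (D.obj a) := fun a => by
    haveI := hqc a.unop
    have h : CompactSpace (F a.unop).subscheme := QuasiCompact.compactSpace_of_compactSpace (F a.unop).subschemeι
    exact h
  haveI hqD : ∀ a, QuasiSeparatedSpace (D.obj a) := fun a => by
    haveI := hqs a.unop
    have h : QuasiSeparatedSpace (F a.unop).subscheme := quasiSeparatedSpace_of_quasiSeparated (F a.unop).subschemeι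
    exact h
  haveI : ∀ a, CompactSpace (D'.obj a) := fun a => by
    haveI := hqc' a.unop
    have h : CompactSpace (F' a.unop).subscheme := QuasiCompact.compactSpace_of_compactSpace (F' a.unop).subschemeι
    exact h
  haveI : ∀ a, QuasiSeparatedSpace (D'.obj a) := fun a => by
    haveI := hqs' a.unop
    have h : QuasiSeparatedSpace (F' a.unop).subscheme := quasiSeparatedSpace_of_quasiSeparated (F' a.unop).subschemeι
    exact h
  -- the strict transform
  have hp : IsPullback (pullback.fst f b) (pullback.snd f b) f b := IsPullback.of_hasPullback f b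
  let EP := (𝓘.comap f).comap (pullback.fst f b)
  let K := HTop.supportedOn EP
  obtain ⟨hKfl, hKfp, hKqc, hKqs⟩ := h _ _ _ hp K
    (mem_supportedOn_iff_killed (RG.StrictSub.isLocPrincipal_exceptional hb hp.w))
  haveI := hKfp
  haveI : LocallyOfFinitePresentation K.subschemeι :=
    MorphismProperty.of_postcomp (W := @LocallyOfFinitePresentation) (W' := @LocallyOfFiniteType)
      K.subschemeι (pullback.snd f b) inferInstance hKfp
  obtain ⟨a, G₁, hG₁, hGK₁⟩ :=
    LimLib.exists_fg_descend hc' K ((LimLib.lfp_subschemeι_iff K).mp inferInstance)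
  let π : B ⟶ (F a.unop).subscheme := c.π.app a
  let π' : pullback f b ⟶ (F' a.unop).subscheme := c'.π.app a
  let G : (F' a.unop).subscheme.IdealSheafData := G₁
  have hG : ∀ U, (G.ideal U).FG := hG₁
  have hGK : G.comap π' = K := hGK₁
  haveI := hci a.unop
  haveI := hci' a.unop
  haveI : CompactSpace (F' a.unop).subscheme := inferInstanceAs (CompactSpace (D'.obj a))
  haveI : QuasiSeparatedSpace (F' a.unop).subscheme := inferInstanceAs (QuasiSeparatedSpace (D'.obj a))
  obtain ⟨gP, hgP⟩ := HTopSq.isPullback_ker_comap (F' a.unop).subschemeι q (F a.unop)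
    (Scheme.IdealSheafData.ker_subschemeι _).symm
  let ta : (F a.unop).subscheme ⟶ Y := (F a.unop).subschemeι ≫ b₀
  have hPa : IsPullback ((F' a.unop).subschemeι ≫ pullback.fst f b₀) gP f ta :=
    hgP.flip.paste_horiz (IsPullback.of_hasPullback f b₀)
  have hπ : π ≫ (F a.unop).subschemeι = σ := Over.w ((LimLib.idealCone F σ hK).π.app a)
  have hπP : π' ≫ (F' a.unop).subschemeι = σP := Over.w ((LimLib.idealCone F' σP hK').π.app a)
  have hπB : π ≫ ta = b := by rw [← hσb, ← hπ, Category.assoc]
  have hπgP : π' ≫ gP = pullback.snd f b ≫ π := by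
    rw [← cancel_mono (F a.unop).subschemeι, Category.assoc, hgP.w, ← Category.assoc, hπP, Category.assoc, hπ]
    exact pullback.lift_snd _ _ _
  have hπfst : π' ≫ (F' a.unop).subschemeι ≫ pullback.fst f b₀ = pullback.fst f b := by
    rw [← Category.assoc, hπP]; exact pullback.lift_fst _ _ _
  have hPB : IsPullback π' (pullback.snd f b) gP π := by
    refine IsPullback.of_right (h₁₁ := π') (h₁₂ := (F' a.unop).subschemeι ≫ pullback.fst f b₀) (v₁₃ := f)
      (h₂₂ := ta) ?_ hπgP hPa
    rw [hπfst, hπB]; exact hp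
  obtain ⟨gK, hgK⟩ := HTopSq.isPullback_ker_comap K.subschemeι π' G
    (hGK.trans (Scheme.IdealSheafData.ker_subschemeι _).symm)
  haveI hGlfp : LocallyOfFinitePresentation G.subschemeι := (LimLib.lfp_subschemeι_iff G).mpr hG
  haveI : IsClosedImmersion G.subschemeι := IsClosedImmersion.instSubschemeι _
  haveI : LocallyOfFinitePresentation gP := MorphismProperty.of_isPullback (P := @LocallyOfFinitePresentation) hPa ‹_›
  haveI hf₀ : LocallyOfFinitePresentation (G.subschemeι ≫ gP) := inferInstance
  haveI : CompactSpace G.subscheme := QuasiCompact.compactSpace_of_compactSpace G.subschemeι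
  haveI : QuasiSeparatedSpace G.subscheme := quasiSeparatedSpace_of_quasiSeparated G.subschemeι
  obtain ⟨j, φ, hjfl⟩ := FlatDescends.descends_flat D c hc inferInstance hcD hqD a G.subscheme
    (G.subschemeι ≫ gP) inferInstance inferInstance hf₀ K.subscheme gK
    (K.subschemeι ≫ pullback.snd f b) (hgK.paste_vert hPB) hKfl
  -- the stage `j`
  let wj : (F j.unop).subscheme ⟶ Y₀ := (F j.unop).subschemeι
  let δ : (F j.unop).subscheme ⟶ (F a.unop).subscheme := D.map φ
  have hjfl' : Flat (pullback.snd (G.subschemeι ≫ gP) δ) := hjfl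
  haveI : IsClosedImmersion wj := hci _
  haveI : LocallyOfFinitePresentation wj := hlfp _
  let bY := wj ≫ b₀
  let eE := pullback.snd e₀ wj
  let πE := pullback.fst e₀ wj ≫ π₀
  have hY : HTop.IsAlmostBlowUpSquare eE πE bY iZ := by
    refine (S8983.result h₀ wj (IsPullback.of_hasPullback e₀ wj)).1 ?_
    exact (Scheme.IdealSheafData.ker_subschemeι _).le.trans (((le_iSup F j.unop).trans hK.le).trans hσk)
  let fT := pullback.fst iZ f
  let iT := pullback.snd iZ f
  let gX := pullback.snd f bY
  let bP := pullback.fst f bY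
  let eP := pullback.snd eE gX
  let πP : pullback eE gX ⟶ pullback iZ f := pullback.lift (pullback.fst eE gX ≫ πE) (eP ≫ bP) (by
    rw [Category.assoc, ← hY.isPullback.w, pullback.condition_assoc, Category.assoc, pullback.condition])
  have hPsq : HTop.IsAlmostBlowUpSquare eP πP bP iT :=
    HTopSq.isAlmostBlowUpSquare_baseChange hY f (IsPullback.of_hasPullback f bY).flip
      (IsPullback.of_hasPullback iZ f) (IsPullback.of_hasPullback eE gX) (pullback.lift_snd _ _ _)
  have hDw : δ ≫ (F a.unop).subschemeι = wj := Over.w ((LimLib.idealDiagram F).map φ)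
  have hDta : δ ≫ ta = bY := by rw [← Category.assoc, hDw]
  let tr : pullback f bY ⟶ (F' a.unop).subscheme := hPa.lift bP (gX ≫ δ) (by
    rw [Category.assoc, hDta, pullback.condition])
  have htr₁ : tr ≫ (F' a.unop).subschemeι ≫ pullback.fst f b₀ = bP := hPa.lift_fst _ _ _
  have htr₂ : tr ≫ gP = gX ≫ δ := hPa.lift_snd _ _ _
  have hPj : IsPullback tr gX gP δ := by
    refine IsPullback.of_right (h₁₁ := tr) (h₁₂ := (F' a.unop).subschemeι ≫ pullback.fst f b₀) (v₁₃ := f)
      (h₂₂ := ta) ?_ htr₂ hPa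
    rw [htr₁, hDta]
    exact IsPullback.of_hasPullback f bY
  let f' := pullback.snd (G.subschemeι ≫ gP) δ
  let gG := pullback.fst (G.subschemeι ≫ gP) δ
  let w : pullback (G.subschemeι ≫ gP) δ ⟶ pullback f bY := hPj.lift (gG ≫ G.subschemeι) f'
    (by rw [Category.assoc]; exact pullback.condition)
  have hw₂ : w ≫ gX = f' := hPj.lift_snd _ _ _
  have hXj : IsPullback gG w G.subschemeι tr := by
    refine IsPullback.of_bot ?_ (hPj.lift_fst _ _ _).symm hPj
    rw [hw₂]
    exact IsPullback.of_hasPullback _ _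
  haveI : IsClosedImmersion w := MorphismProperty.of_isPullback hXj inferInstance
  haveI : LocallyOfFinitePresentation w := MorphismProperty.of_isPullback hXj inferInstance
  let fE := pullback.fst eE f'
  let eD := pullback.snd eE f'
  let gE : pullback eE f' ⟶ pullback eE gX := pullback.lift fE (eD ≫ w) (by
    rw [Category.assoc, hw₂]; exact pullback.condition)
  have hEW : IsPullback gE eD eP w := by
    refine IsPullback.of_right (h₁₁ := gE) (h₁₂ := pullback.fst eE gX) (v₁₃ := eE) (h₂₂ := gX) ?_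
      (pullback.lift_snd _ _ _) (IsPullback.of_hasPullback eE gX)
    rw [pullback.lift_fst, hw₂]
    exact IsPullback.of_hasPullback eE f'
  have hwle : w.ker ≤ HTop.supportedOn (iT.ker.comap bP) := by
    let S := HTop.supportedOn (iT.ker.comap bP)
    let s := S.subschemeι
    have hiT : iT.ker = 𝓘.comap f := by
      rw [HTopSq.ker_isPullback (IsPullback.of_hasPullback iZ f), hker]
    have hcs : BlowUp.IsEffCartierIdeal (𝓘.comap (s ≫ bP ≫ f)) := by
      have := HTopSq.isEffCartierIdeal_comap_supportedOn hPsq.locPrincipal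
      simpa only [S, s, hiT, ← Scheme.IdealSheafData.comap_comp, Category.assoc] using this
    obtain ⟨l, hl, -⟩ := hb.2 _ (s ≫ bP ≫ f) hcs
    have hlσ : s ≫ gX ≫ wj = l ≫ σ := by
      refine hom_ext_almost h₀ ?_ ?_
      · simp only [Category.assoc]
        rw [hσb, hl]
        exact congrArg (s ≫ ·) pullback.condition.symm
      · rw [hker]
        have e : (s ≫ gX ≫ wj) ≫ b₀ = s ≫ bP ≫ f := by
          simp only [Category.assoc]; exact congrArg (s ≫ ·) pullback.condition.symm
        rw [e]; exact hcs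
    let mP : S.subscheme ⟶ pullback f b := pullback.lift (s ≫ bP) l (by rw [Category.assoc]; exact hl.symm)
    have hKle : K ≤ mP.ker := by
      refine HTopSq.supportedOn_le_ker mP ?_
      rw [← Scheme.IdealSheafData.comap_comp, pullback.lift_fst, ← Scheme.IdealSheafData.comap_comp,
        Category.assoc]
      exact hcs
    have hstr : s ≫ tr = mP ≫ π' := by
      refine hPa.hom_ext ?_ ?_
      · rw [Category.assoc, Category.assoc, htr₁, hπfst, pullback.lift_fst]
      · rw [Category.assoc, Category.assoc, htr₂, hπgP, ← Category.assoc mP, pullback.lift_snd,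
          ← cancel_mono (F a.unop).subschemeι]
        simp only [Category.assoc]
        rw [hDw, hπ]
        exact hlσ
    have hGle : G ≤ (s ≫ tr).ker := by
      rw [hstr, Scheme.Hom.ker_comp, Scheme.IdealSheafData.le_map_iff_comap_le, hGK]
      exact hKle
    let m := IsClosedImmersion.lift G.subschemeι (s ≫ tr) (by
      rw [Scheme.IdealSheafData.ker_subschemeι]; exact hGle)
    have hl' : hXj.lift m s (IsClosedImmersion.lift_fac _ _ _) ≫ w = s := hXj.lift_snd _ _ _
    refine (Scheme.Hom.le_ker_comp (hXj.lift m s (IsClosedImmersion.lift_fac _ _ _)) w).trans ?_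
    rw [hl', Scheme.IdealSheafData.ker_subschemeι]
  have hX := (S8983.result hPsq w hEW).1 hwle
  refine ⟨_, (F j.unop).subscheme, _, _, _, _, iZ, bY, eE, πE, iT, w ≫ bP, eD, gE ≫ πP, fT, f', fE, hY, hX,
    IsPullback.of_hasPullback iZ f, IsPullback.of_hasPullback eE f', ?_, ?_, ?_, hjfl', ?_⟩
  · rw [← hw₂, Category.assoc, Category.assoc, pullback.condition]
  · rw [Category.assoc, pullback.lift_fst, pullback.lift_fst_assoc]
  · refine Opens.ext (Set.eq_empty_iff_forall_notMem.2 fun z hz => ?_)
    exact hadm.2.le_bot ⟨(𝓘.range_subschemeι).le ⟨z, rfl⟩, hz⟩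
  · exact MorphismProperty.pullback_snd (P := @LocallyOfFinitePresentation) _ _ hf₀

end Groth.Agent.SubtrFlat
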